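import Mathlib
import Groth.Agent.Lib.Helper2.LfpOfComp

/-! helper7: the locus of points of the base over which the map induced on fibres by a morphism of
schemes of finite presentation over the base is surjective is locally constructible (EGA IV 9.6.1). -/

set_option autoImplicit false
set_option linter.style.haveILetI false
set_option linter.unusedVariables false
set_option linter.unusedSectionVars false
universe u

noncomputable section

namespace Groth.Agent.Helper7.FibSurj

open CategoryTheory CategoryTheory.Limits AlgebraicGeometry Topology

theorem isLocallyConstructible_compl {Z : Type*} [TopologicalSpace Z] {s : Set Z}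
    (hs : IsLocallyConstructible s) : IsLocallyConstructible sᶜ := by
  intro x
  obtain ⟨U, hxU, hU, hUs⟩ := hs x
  refine ⟨U, hxU, hU, ?_⟩
  rw [Set.preimage_compl]
  exact hUs.compl

variable {X Y S : Scheme.{u}} (f : X ⟶ Y) (g : Y ⟶ S)

/-- the map induced on fibres -/
abbrev fibMap (s : S) :
    pullback (f ≫ g) (S.fromSpecResidueField s) ⟶ pullback g (S.fromSpecResidueField s) :=
  pullback.lift (pullback.fst (f ≫ g) (S.fromSpecResidueField s) ≫ f)
    (pullback.snd (f ≫ g) (S.fromSpecResidueField s))
    ((Category.assoc _ _ _).trans pullback.condition)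

theorem fibMap_fst (s : S) :
    fibMap f g s ≫ pullback.fst g (S.fromSpecResidueField s) =
      pullback.fst (f ≫ g) (S.fromSpecResidueField s) ≫ f :=
  pullback.lift_fst _ _ _

theorem fibMap_fst_apply (s : S) (x' : ↥(pullback (f ≫ g) (S.fromSpecResidueField s))) :
    (pullback.fst g (S.fromSpecResidueField s)).base ((fibMap f g s).base x') =
      f.base ((pullback.fst (f ≫ g) (S.fromSpecResidueField s)).base x') := by
  have := congrArg (fun φ => φ.base x') (fibMap_fst f g s)
  simpa using this

theorem surjective_fibMap_iff (s : S) :
    Function.Surjective (fibMap f g s).base ↔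
      ∀ y : Y, g.base y = s → y ∈ Set.range f.base := by
  constructor
  · intro h y hy
    have hy' : y ∈ Set.range (g.fiberι s).base := by
      rw [Scheme.Hom.range_fiberι]
      exact hy
    obtain ⟨y', rfl⟩ := hy'
    obtain ⟨x', rfl⟩ := h y'
    exact ⟨(pullback.fst (f ≫ g) (S.fromSpecResidueField s)).base x',
      (fibMap_fst_apply f g s x').symm⟩
  · intro h y'
    have hy : g.base ((g.fiberι s).base y') = s := by
      have : (g.fiberι s).base y' ∈ Set.range (g.fiberι s).base := ⟨y', rfl⟩
      rw [Scheme.Hom.range_fiberι] at this
      exact this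
    obtain ⟨x, hx⟩ := h _ hy
    have hx' : x ∈ Set.range ((f ≫ g).fiberι s).base := by
      rw [Scheme.Hom.range_fiberι]
      change (f ≫ g).base x = s
      rw [Scheme.Hom.comp_base, TopCat.comp_app, hx, hy]
    obtain ⟨x', rfl⟩ := hx'
    refine ⟨x', ?_⟩
    apply (g.fiberι s).isEmbedding.injective
    exact (fibMap_fst_apply f g s x').trans hx

theorem isLocallyConstructible_setOf_surjective
    [LocallyOfFinitePresentation g] [QuasiCompact g] [QuasiSeparated g]
    [LocallyOfFinitePresentation (f ≫ g)] [QuasiCompact (f ≫ g)] [QuasiSeparated (f ≫ g)] :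
    IsLocallyConstructible {s : S | Function.Surjective (fibMap f g s).base} := by
  haveI : LocallyOfFinitePresentation f :=
    Groth.Agent.Helper2.locallyOfFinitePresentation_of_comp f g inferInstance inferInstance
  haveI : QuasiCompact f :=
    MorphismProperty.of_postcomp (W := @QuasiCompact) (W' := @QuasiSeparated) f g
      inferInstance inferInstance
  have h1 : IsLocallyConstructible (Set.range f.base) := by
    rw [← Set.image_univ]
    exact f.isLocallyConstructible_image IsLocallyConstructible.univ
  have h2 : IsLocallyConstructible (g.base '' (Set.range f.base)ᶜ) :=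
    g.isLocallyConstructible_image (isLocallyConstructible_compl h1)
  have h3 : {s : S | Function.Surjective (fibMap f g s).base} =
      (g.base '' (Set.range f.base)ᶜ)ᶜ := by
    ext s
    rw [Set.mem_ofPred_eq, surjective_fibMap_iff, Set.mem_compl_iff, Set.mem_image]
    constructor
    · rintro h ⟨y, hy, hys⟩
      exact hy (h y hys)
    · intro h y hys
      by_contra hy
      exact h ⟨y, hy, hys⟩
  rw [h3]
  exact isLocallyConstructible_compl h2

end Groth.Agent.Helper7.FibSurj
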