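import Mathlib
import Groth.Agent.Lib.Helper7.FibSurj.Main

/-! helper7: the quasi-finite locus of a morphism locally of finite presentation is locally
constructible (Noetherian approximation through the coefficient ring of a presentation, plus the
behaviour of quasi-finiteness at a point under arbitrary base change); consequence: the locus of
points of the base over which the map induced on fibres is locally quasi-finite is locally
constructible (EGA IV 9.6.1). -/

set_option autoImplicit false
set_option linter.style.haveILetI false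
set_option linter.unusedVariables false
set_option linter.unusedSectionVars false
universe u

noncomputable section

namespace Groth.Agent.Helper7.FibSurj

open CategoryTheory CategoryTheory.Limits AlgebraicGeometry Topology TensorProduct

/-- flexible form of the isolated-point criterion -/
theorem quasiFiniteAt_iff_isOpen_singleton {X Y : Scheme.{u}} (f : X ⟶ Y) [LocallyOfFiniteType f]
    (x : X) (y : Y) (hxy : f x = y) (z : f.fiber y) (hz : f.fiberι y z = x) :
    f.QuasiFiniteAt x ↔ IsOpen ({z} : Set (f.fiber y)) := by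
  subst hxy
  have : z = f.asFiber x := (f.fiberι _).isEmbedding.injective (by rw [hz, f.fiberι_asFiber])
  subst this
  exact Scheme.Hom.quasiFiniteAt_iff_isOpen_singleton_asFiber

theorem quasiFiniteAt_of_isPullback_up {X Y X₀ Y₀ : Scheme.{u}} {g' : X ⟶ X₀} {f : X ⟶ Y}
    {f₀ : X₀ ⟶ Y₀} {g : Y ⟶ Y₀} (h : IsPullback g' f f₀ g) [LocallyOfFiniteType f₀]
    (x : X) (hx : f₀.QuasiFiniteAt (g' x)) : f.QuasiFiniteAt x := by
  let U₀ := f₀.quasiFiniteLocus
  have h1 : IsPullback (g' ∣_ U₀) (g' ⁻¹ᵁ U₀).ι U₀.ι g' := isPullback_morphismRestrict g' U₀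
  have h2 : IsPullback (g' ∣_ U₀) ((g' ⁻¹ᵁ U₀).ι ≫ f) (U₀.ι ≫ f₀) g := h1.paste_vert h
  haveI : LocallyQuasiFinite (U₀.ι ≫ f₀) := inferInstance
  haveI : LocallyQuasiFinite ((g' ⁻¹ᵁ U₀).ι ≫ f) :=
    MorphismProperty.of_isPullback (P := @LocallyQuasiFinite) h2 inferInstance
  have hx' : x ∈ g' ⁻¹ᵁ U₀ := hx
  have := Scheme.Hom.quasiFiniteAt ((g' ⁻¹ᵁ U₀).ι ≫ f) ⟨x, hx'⟩
  rwa [Scheme.Hom.quasiFiniteAt_comp_iff_of_isOpenImmersion] at this

theorem quasiFiniteAt_of_isPullback_down {X Y X₀ Y₀ : Scheme.{u}} {g' : X ⟶ X₀} {f : X ⟶ Y}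
    {f₀ : X₀ ⟶ Y₀} {g : Y ⟶ Y₀} (h : IsPullback g' f f₀ g) [LocallyOfFiniteType f₀]
    [LocallyOfFiniteType f]
    (x : X) (hx : f.QuasiFiniteAt x) : f₀.QuasiFiniteAt (g' x) := by
  obtain ⟨ψ, hP, hψι⟩ : ∃ ψ : f.fiber (f x) ⟶ f₀.fiber (g (f x)),
      IsPullback ψ (f.fiberToSpecResidueField (f x)) (f₀.fiberToSpecResidueField (g (f x)))
        (Spec.map (g.residueFieldMap (f x))) ∧
      ψ ≫ f₀.fiberι (g (f x)) = f.fiberι (f x) ≫ g' :=
    ⟨_, isPullback_fiberToSpecResidueField_of_isPullback h (f x), pullback.lift_fst _ _ _⟩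
  haveI : UniversallyOpen (Spec.map (g.residueFieldMap (f x))) := inferInstance
  haveI hψ : UniversallyOpen ψ :=
    MorphismProperty.of_isPullback (P := @UniversallyOpen) hP.flip inferInstance
  have hz : IsOpen ({f.asFiber x} : Set (f.fiber (f x))) :=
    Scheme.Hom.quasiFiniteAt_iff_isOpen_singleton_asFiber.mp hx
  have hz' := ψ.isOpenMap _ hz
  rw [Set.image_singleton] at hz'
  refine (quasiFiniteAt_iff_isOpen_singleton f₀ (g' x) (g (f x)) ?_ _ ?_).mpr hz'
  · have := congrArg (fun φ => φ.base x) h.w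
    simpa using this
  · have := congrArg (fun φ => φ.base (f.asFiber x)) hψι
    simp only [Scheme.Hom.comp_base, TopCat.comp_app] at this
    rw [this, f.fiberι_asFiber]


theorem quasiFiniteAt_iff_of_isPullback {X Y X₀ Y₀ : Scheme.{u}} {g' : X ⟶ X₀} {f : X ⟶ Y}
    {f₀ : X₀ ⟶ Y₀} {g : Y ⟶ Y₀} (h : IsPullback g' f f₀ g) [LocallyOfFiniteType f₀]
    (x : X) : f.QuasiFiniteAt x ↔ f₀.QuasiFiniteAt (g' x) := by
  haveI : LocallyOfFiniteType f :=
    MorphismProperty.of_isPullback (P := @LocallyOfFiniteType) h inferInstance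
  exact ⟨quasiFiniteAt_of_isPullback_down h x, quasiFiniteAt_of_isPullback_up h x⟩

theorem isConstructible_quasiFiniteAt_SpecMap {R S : CommRingCat.{u}} (φ : R ⟶ S)
    (hφ : φ.hom.FinitePresentation) :
    IsConstructible {x : Spec S | (Spec.map φ).QuasiFiniteAt x} := by
  algebraize [φ.hom]
  let P := Algebra.Presentation.ofFinitePresentation R S
  let R₀ := P.Core
  let S₀ := P.ModelOfHasCoeffs R₀
  let e : R ⊗[R₀] S₀ ≃ₐ[R] S := P.tensorModelOfHasCoeffsEquiv R₀
  let a : CommRingCat.of R₀ ⟶ R := CommRingCat.ofHom (algebraMap R₀ R)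
  let b : CommRingCat.of R₀ ⟶ CommRingCat.of S₀ := CommRingCat.ofHom (algebraMap R₀ S₀)
  let c : CommRingCat.of S₀ ⟶ S := CommRingCat.ofHom
    ((e : R ⊗[R₀] S₀ →+* S).comp Algebra.TensorProduct.includeRight.toRingHom)
  have hpo : IsPushout a b φ c := by
    refine (CommRingCat.isPushout_tensorProduct R₀ R S₀).of_iso (Iso.refl _) (Iso.refl _)
      (Iso.refl _) e.toRingEquiv.toCommRingCatIso ?_ ?_ ?_ ?_
    · simp [a]
    · simp [b]
    · ext r
      have h1 : (r ⊗ₜ[R₀] (1 : S₀)) = algebraMap R (R ⊗[R₀] S₀) r :=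
        (Algebra.TensorProduct.algebraMap_apply (R := R₀) (S := R) (A := R) (B := S₀) r).symm
      change e (r ⊗ₜ[R₀] (1 : S₀)) = φ.hom r
      rw [h1, e.commutes]
      rfl
    · rw [Iso.refl_hom, Category.id_comp]
      rfl
  have hpb : IsPullback (Spec.map c) (Spec.map φ) (Spec.map b) (Spec.map a) :=
    (isPullback_SpecMap_of_isPushout a b φ c hpo).flip
  have hb : b.hom.FinitePresentation := by
    change (algebraMap R₀ S₀).FinitePresentation
    rw [RingHom.finitePresentation_algebraMap]
    infer_instance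
  haveI : LocallyOfFinitePresentation (Spec.map b) :=
    (HasRingHomProperty.Spec_iff (P := @LocallyOfFinitePresentation)).mpr hb
  haveI : IsNoetherianRing R₀ := Algebra.FiniteType.isNoetherianRing ℤ R₀
  haveI : IsNoetherianRing S₀ := Algebra.FiniteType.isNoetherianRing R₀ S₀
  haveI : TopologicalSpace.NoetherianSpace (Spec (CommRingCat.of S₀)) :=
    inferInstanceAs (TopologicalSpace.NoetherianSpace (PrimeSpectrum S₀))
  have hU₀ : IsConstructible {x₀ : Spec (CommRingCat.of S₀) | (Spec.map b).QuasiFiniteAt x₀} := by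
    refine IsRetrocompact.isConstructible (Spec.map b).isOpen_quasiFiniteAt (fun V hV hVo => ?_)
    exact TopologicalSpace.NoetherianSpace.isCompact _
  have heq : {x : Spec S | (Spec.map φ).QuasiFiniteAt x} =
      (Spec.map c) ⁻¹' {x₀ : Spec (CommRingCat.of S₀) | (Spec.map b).QuasiFiniteAt x₀} := by
    ext x
    exact quasiFiniteAt_iff_of_isPullback hpb x
  rw [heq]
  exact (Spec.map c).isConstructible_preimage hU₀


theorem isLocallyConstructible_of_openCover {X : Scheme.{u}} (𝒰 : X.OpenCover) {s : Set X}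
    (H : ∀ i, IsLocallyConstructible ((𝒰.f i) ⁻¹' s)) : IsLocallyConstructible s := by
  refine IsLocallyConstructible.of_isOpenCover 𝒰.isOpenCover_opensRange fun i => ?_
  have h1 := (H i).preimage_of_isOpenEmbedding
    (𝒰.f i).isoOpensRange.inv.isOpenEmbedding
  have h2 : ((𝒰.f i).isoOpensRange.inv ⁻¹' ((𝒰.f i) ⁻¹' s)) =
      (Subtype.val ⁻¹' s : Set ((𝒰.f i).opensRange : Set X)) := by
    ext p
    simp only [Set.mem_preimage]
    have : (𝒰.f i) ((𝒰.f i).isoOpensRange.inv p) = p.1 := by
      have := congrArg (fun φ => φ.base p) (Scheme.Hom.isoOpensRange_inv_comp (𝒰.f i))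
      simp only [Scheme.Hom.comp_base, TopCat.comp_app] at this
      exact this
    rw [this]
    exact Iff.rfl
  rw [h2] at h1
  exact h1

theorem isLocallyConstructible_quasiFiniteAt_of_affine_affine {X Y : Scheme.{u}} (f : X ⟶ Y)
    [LocallyOfFinitePresentation f] (hX : ∃ S, X = Spec S) (hY : ∃ R, Y = Spec R) :
    IsLocallyConstructible {x | f.QuasiFiniteAt x} := by
  obtain ⟨S, rfl⟩ := hX
  obtain ⟨R, rfl⟩ := hY
  obtain ⟨φ, rfl⟩ := Spec.map_surjective f
  have hφ : φ.hom.FinitePresentation :=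
    (HasRingHomProperty.Spec_iff (P := @LocallyOfFinitePresentation)).mp inferInstance
  exact (isConstructible_quasiFiniteAt_SpecMap φ hφ).isLocallyConstructible

theorem isLocallyConstructible_quasiFiniteAt_of_affine {X Y : Scheme.{u}} (f : X ⟶ Y)
    [LocallyOfFinitePresentation f] (hY : ∃ R, Y = Spec R) :
    IsLocallyConstructible {x | f.QuasiFiniteAt x} := by
  refine isLocallyConstructible_of_openCover X.affineCover fun i => ?_
  have h1 := isLocallyConstructible_quasiFiniteAt_of_affine_affine (X.affineCover.f i ≫ f)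
    ⟨_, rfl⟩ hY
  convert h1 using 1
  ext x
  simp only [Set.mem_preimage, Set.mem_ofPred_eq]
  exact Scheme.Hom.quasiFiniteAt_comp_iff_of_isOpenImmersion.symm

theorem isLocallyConstructible_quasiFiniteAt {X Y : Scheme.{u}} (f : X ⟶ Y)
    [LocallyOfFinitePresentation f] :
    IsLocallyConstructible {x | f.QuasiFiniteAt x} := by
  refine isLocallyConstructible_of_openCover (Y.affineCover.pullback₁ f) fun i => ?_
  have h1 := isLocallyConstructible_quasiFiniteAt_of_affine
    (pullback.snd f (Y.affineCover.f i)) ⟨_, rfl⟩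
  have h2 : {x | (pullback.snd f (Y.affineCover.f i)).QuasiFiniteAt x} =
      ((Y.affineCover.pullback₁ f).f i) ⁻¹' {x | f.QuasiFiniteAt x} := by
    ext x
    exact (quasiFiniteAt_iff_of_isPullback
      (IsPullback.of_hasPullback f (Y.affineCover.f i)) x)
  rw [h2] at h1
  exact h1

section Main

variable {X Y S : Scheme.{u}} (f : X ⟶ Y) (g : Y ⟶ S)

theorem isPullback_fibMap (s : S) :
    IsPullback (pullback.fst (f ≫ g) (S.fromSpecResidueField s)) (fibMap f g s) f
      (pullback.fst g (S.fromSpecResidueField s)) := by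
  refine IsPullback.flip (IsPullback.of_right (h₁₂ := pullback.snd g (S.fromSpecResidueField s))
    (v₁₃ := S.fromSpecResidueField s) (h₂₂ := g) ?_ (fibMap_fst f g s)
    (IsPullback.of_hasPullback g (S.fromSpecResidueField s)).flip)
  have h1 : fibMap f g s ≫ pullback.snd g (S.fromSpecResidueField s) =
      pullback.snd (f ≫ g) (S.fromSpecResidueField s) := pullback.lift_snd _ _ _
  rw [h1]
  exact (IsPullback.of_hasPullback (f ≫ g) (S.fromSpecResidueField s)).flip

theorem locallyQuasiFinite_fibMap_iff [LocallyOfFiniteType f] (s : S) :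
    LocallyQuasiFinite (fibMap f g s) ↔
      ∀ x : X, (f ≫ g) x = s → f.QuasiFiniteAt x := by
  have hpb := isPullback_fibMap f g s
  haveI : LocallyOfFiniteType (fibMap f g s) :=
    MorphismProperty.of_isPullback (P := @LocallyOfFiniteType) hpb inferInstance
  rw [← Scheme.Hom.quasiFiniteLocus_eq_top_iff]
  constructor
  · intro h x hx
    have hx' : x ∈ Set.range ((f ≫ g).fiberι s) := by
      rw [Scheme.Hom.range_fiberι]
      exact hx
    obtain ⟨x', rfl⟩ := hx'
    have h1 : x' ∈ (fibMap f g s).quasiFiniteLocus := by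
      rw [h]
      trivial
    exact (quasiFiniteAt_iff_of_isPullback hpb x').mp h1
  · intro h
    refine top_le_iff.mp fun x' _ => ?_
    refine (quasiFiniteAt_iff_of_isPullback hpb x').mpr (h _ ?_)
    have : ((f ≫ g).fiberι s) x' ∈ Set.range ((f ≫ g).fiberι s) := ⟨x', rfl⟩
    rw [Scheme.Hom.range_fiberι] at this
    exact this

theorem isLocallyConstructible_setOf_locallyQuasiFinite
    [LocallyOfFinitePresentation g] [QuasiCompact g] [QuasiSeparated g]
    [LocallyOfFinitePresentation (f ≫ g)] [QuasiCompact (f ≫ g)] [QuasiSeparated (f ≫ g)] :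
    IsLocallyConstructible {s : S | LocallyQuasiFinite (fibMap f g s)} := by
  haveI : LocallyOfFinitePresentation f :=
    Groth.Agent.Helper2.locallyOfFinitePresentation_of_comp f g inferInstance inferInstance
  have h1 : IsLocallyConstructible {x | f.QuasiFiniteAt x}ᶜ :=
    isLocallyConstructible_compl (isLocallyConstructible_quasiFiniteAt f)
  have h2 : IsLocallyConstructible ((f ≫ g) '' {x | f.QuasiFiniteAt x}ᶜ) :=
    (f ≫ g).isLocallyConstructible_image h1
  have h3 : {s : S | LocallyQuasiFinite (fibMap f g s)} =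
      ((f ≫ g) '' {x | f.QuasiFiniteAt x}ᶜ)ᶜ := by
    ext s
    rw [Set.mem_ofPred_eq, locallyQuasiFinite_fibMap_iff, Set.mem_compl_iff, Set.mem_image]
    constructor
    · rintro h ⟨x, hx, hxs⟩
      exact hx (h x hxs)
    · intro h x hxs
      by_contra hx
      exact h ⟨x, hx, hxs⟩
  rw [h3]
  exact isLocallyConstructible_compl h2

end Main

end Groth.Agent.Helper7.FibSurj
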