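import Mathlib
import Groth.Agent.Lib.Helper7.FibSurj.Main

/-! helper7: the locus of points of the base over which the map induced on fibres is radicial
(universally injective) is locally constructible (EGA IV 9.6.1), deduced from the surjective case
applied to the diagonal. -/

set_option autoImplicit false
set_option linter.style.haveILetI false
set_option linter.unusedVariables false
set_option linter.unusedSectionVars false
universe u

noncomputable section

namespace Groth.Agent.Helper7.FibSurj

open CategoryTheory CategoryTheory.Limits AlgebraicGeometry Topology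

variable {X Y S : Scheme.{u}} (f : X ⟶ Y) (g : Y ⟶ S) (s : S)

/-- the comparison map from the fibre product of the fibre with itself -/
def theta : pullback (fibMap f g s) (fibMap f g s) ⟶ pullback f f :=
  pullback.map _ _ _ _ (pullback.fst (f ≫ g) (S.fromSpecResidueField s))
    (pullback.fst (f ≫ g) (S.fromSpecResidueField s)) (pullback.fst g (S.fromSpecResidueField s))
    (fibMap_fst f g s) (fibMap_fst f g s)

theorem theta_fst : theta f g s ≫ pullback.fst f f =
    pullback.fst _ _ ≫ pullback.fst (f ≫ g) (S.fromSpecResidueField s) :=
  pullback.lift_fst _ _ _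

theorem theta_snd : theta f g s ≫ pullback.snd f f =
    pullback.snd _ _ ≫ pullback.fst (f ≫ g) (S.fromSpecResidueField s) :=
  pullback.lift_snd _ _ _

theorem diagonal_theta : pullback.diagonal (fibMap f g s) ≫ theta f g s =
    pullback.fst (f ≫ g) (S.fromSpecResidueField s) ≫ pullback.diagonal f := by
  apply pullback.hom_ext
  · rw [Category.assoc, theta_fst, Category.assoc, pullback.diagonal_fst, pullback.diagonal_fst_assoc,
      Category.comp_id]
  · rw [Category.assoc, theta_snd, Category.assoc, pullback.diagonal_snd, pullback.diagonal_snd_assoc,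
      Category.comp_id]

instance : Mono (theta f g s) := by
  constructor
  intro Z a b hab
  apply pullback.hom_ext
  · rw [← cancel_mono (pullback.fst (f ≫ g) (S.fromSpecResidueField s)), Category.assoc,
      Category.assoc, ← theta_fst, ← Category.assoc, ← Category.assoc, hab]
  · rw [← cancel_mono (pullback.fst (f ≫ g) (S.fromSpecResidueField s)), Category.assoc,
      Category.assoc, ← theta_snd, ← Category.assoc, ← Category.assoc, hab]

/-- the structure map of the fibre square to the base -/
abbrev gW : pullback f f ⟶ S := pullback.fst f f ≫ (f ≫ g)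

/-- first projection of the fibre of the fibre square -/
def u₁ : pullback (gW f g) (S.fromSpecResidueField s) ⟶
    pullback (f ≫ g) (S.fromSpecResidueField s) :=
  pullback.lift (pullback.fst (gW f g) (S.fromSpecResidueField s) ≫ pullback.fst f f)
    (pullback.snd (gW f g) (S.fromSpecResidueField s))
    ((Category.assoc _ _ _).trans pullback.condition)

/-- second projection of the fibre of the fibre square -/
def u₂ : pullback (gW f g) (S.fromSpecResidueField s) ⟶
    pullback (f ≫ g) (S.fromSpecResidueField s) :=
  pullback.lift (pullback.fst (gW f g) (S.fromSpecResidueField s) ≫ pullback.snd f f)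
    (pullback.snd (gW f g) (S.fromSpecResidueField s))
    (by
      have h1 : pullback.snd f f ≫ f ≫ g = pullback.fst f f ≫ f ≫ g := by
        rw [← Category.assoc, ← pullback.condition, Category.assoc]
      rw [Category.assoc, h1]
      exact pullback.condition)

theorem u₁_fst : u₁ f g s ≫ pullback.fst (f ≫ g) (S.fromSpecResidueField s) =
    pullback.fst (gW f g) (S.fromSpecResidueField s) ≫ pullback.fst f f :=
  pullback.lift_fst _ _ _

theorem u₂_fst : u₂ f g s ≫ pullback.fst (f ≫ g) (S.fromSpecResidueField s) =
    pullback.fst (gW f g) (S.fromSpecResidueField s) ≫ pullback.snd f f :=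
  pullback.lift_fst _ _ _

theorem u₁_snd : u₁ f g s ≫ pullback.snd (f ≫ g) (S.fromSpecResidueField s) =
    pullback.snd (gW f g) (S.fromSpecResidueField s) :=
  pullback.lift_snd _ _ _

theorem u₂_snd : u₂ f g s ≫ pullback.snd (f ≫ g) (S.fromSpecResidueField s) =
    pullback.snd (gW f g) (S.fromSpecResidueField s) :=
  pullback.lift_snd _ _ _

theorem fibMap_snd : fibMap f g s ≫ pullback.snd g (S.fromSpecResidueField s) =
    pullback.snd (f ≫ g) (S.fromSpecResidueField s) :=
  pullback.lift_snd _ _ _

theorem u_comp : u₁ f g s ≫ fibMap f g s = u₂ f g s ≫ fibMap f g s := by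
  apply pullback.hom_ext
  · rw [Category.assoc, Category.assoc, fibMap_fst, ← Category.assoc, ← Category.assoc, u₁_fst,
      u₂_fst, Category.assoc, Category.assoc, pullback.condition]
  · rw [Category.assoc, Category.assoc, fibMap_snd, u₁_snd, u₂_snd]

/-- the section of `theta` over the fibre -/
def v : pullback (gW f g) (S.fromSpecResidueField s) ⟶
    pullback (fibMap f g s) (fibMap f g s) :=
  pullback.lift (u₁ f g s) (u₂ f g s) (u_comp f g s)

theorem v_theta : v f g s ≫ theta f g s = pullback.fst (gW f g) (S.fromSpecResidueField s) := by
  apply pullback.hom_ext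
  · rw [Category.assoc, theta_fst, ← Category.assoc, v, pullback.lift_fst, u₁_fst]
  · rw [Category.assoc, theta_snd, ← Category.assoc, v, pullback.lift_snd, u₂_fst]

theorem universallyInjective_fibMap_iff :
    UniversallyInjective (fibMap f g s) ↔
      ∀ z : ↥(pullback f f), (gW f g).base z = s → z ∈ Set.range (pullback.diagonal f).base := by
  rw [UniversallyInjective.iff_diagonal]
  constructor
  · intro h z hz
    have hz' : z ∈ Set.range ((gW f g).fiberι s).base := by
      rw [Scheme.Hom.range_fiberι]
      exact hz
    obtain ⟨z', rfl⟩ := hz'
    obtain ⟨x', hx'⟩ := h.surj ((v f g s).base z')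
    refine ⟨(pullback.fst (f ≫ g) (S.fromSpecResidueField s)).base x', ?_⟩
    have e1 := congrArg (fun φ => φ.base x') (diagonal_theta f g s)
    have e2 := congrArg (fun φ => φ.base z') (v_theta f g s)
    simp only [Scheme.Hom.comp_base, TopCat.comp_app] at e1 e2
    rw [← e1, hx']
    exact e2
  · intro h
    refine ⟨fun w => ?_⟩
    have hw : (gW f g).base ((theta f g s).base w) = s := by
      have e := congrArg (fun φ => φ.base w)
        (show theta f g s ≫ gW f g = (pullback.fst _ _ ≫
          pullback.fst (f ≫ g) (S.fromSpecResidueField s)) ≫ (f ≫ g) by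
          rw [gW, ← Category.assoc, theta_fst])
      simp only [Scheme.Hom.comp_base, TopCat.comp_app] at e
      refine Eq.trans e ?_
      have : (pullback.fst (f ≫ g) (S.fromSpecResidueField s)).base
          ((pullback.fst (fibMap f g s) (fibMap f g s)).base w) ∈
          Set.range ((f ≫ g).fiberι s).base := ⟨_, rfl⟩
      rw [Scheme.Hom.range_fiberι] at this
      simpa using this
    obtain ⟨x, hx⟩ := h _ hw
    have hxs : x ∈ Set.range ((f ≫ g).fiberι s).base := by
      rw [Scheme.Hom.range_fiberι]
      have e := congrArg (fun φ => φ.base x)
        (show pullback.diagonal f ≫ gW f g = f ≫ g by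
          rw [gW, pullback.diagonal_fst_assoc])
      simp only [Scheme.Hom.comp_base, TopCat.comp_app] at e
      change (f ≫ g).base x = s
      rw [Scheme.Hom.comp_base, TopCat.comp_app, ← e, hx]
      exact hw
    obtain ⟨x', rfl⟩ := hxs
    refine ⟨x', ?_⟩
    apply (theta f g s).injective
    have e1 := congrArg (fun φ => φ.base x') (diagonal_theta f g s)
    simp only [Scheme.Hom.comp_base, TopCat.comp_app] at e1
    exact e1.trans hx

theorem isLocallyConstructible_setOf_universallyInjective
    [LocallyOfFinitePresentation g] [QuasiCompact g] [QuasiSeparated g]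
    [LocallyOfFinitePresentation (f ≫ g)] [QuasiCompact (f ≫ g)] [QuasiSeparated (f ≫ g)] :
    IsLocallyConstructible {s : S | UniversallyInjective (fibMap f g s)} := by
  haveI : LocallyOfFinitePresentation f :=
    Groth.Agent.Helper2.locallyOfFinitePresentation_of_comp f g inferInstance inferInstance
  haveI : QuasiCompact f :=
    MorphismProperty.of_postcomp (W := @QuasiCompact) (W' := @QuasiSeparated) f g
      inferInstance inferInstance
  haveI : QuasiSeparated f :=
    MorphismProperty.of_postcomp (W := @QuasiSeparated) (W' := ⊤) f g trivial inferInstance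
  have e : pullback.diagonal f ≫ gW f g = f ≫ g := by
    rw [gW, pullback.diagonal_fst_assoc]
  haveI : LocallyOfFinitePresentation (pullback.diagonal f ≫ gW f g) := by rw [e]; infer_instance
  haveI : QuasiCompact (pullback.diagonal f ≫ gW f g) := by rw [e]; infer_instance
  haveI : QuasiSeparated (pullback.diagonal f ≫ gW f g) := by rw [e]; infer_instance
  have h1 := isLocallyConstructible_setOf_surjective (pullback.diagonal f) (gW f g)
  have h2 : {s : S | UniversallyInjective (fibMap f g s)} =
      {s : S | Function.Surjective (fibMap (pullback.diagonal f) (gW f g) s).base} := by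
    ext s
    rw [Set.mem_ofPred_eq, Set.mem_ofPred_eq, universallyInjective_fibMap_iff,
      surjective_fibMap_iff]
  rw [h2]
  exact h1

end Groth.Agent.Helper7.FibSurj
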